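import Cfsg.Agent.H780.D4.Stmts
import Cfsg.Agent.H294.PU.Gen

/-!
# S5261: the statement `StL2a` (helper7)

`piZ γ` is the action of `γ ∈ Aut(Q₂)` on `Z₂ = F²`, `piW γ` the action on `Z₃/Z₂ = K`. The elements with `piW γ = 1`
act `F`-linearly on `Z₂` and the action on `Q₂/Z₃` is determined by `piW`, `piZ`.
-/

set_option autoImplicit false
set_option linter.unusedSectionVars false

namespace Cfsg.Agent.H7.D4.LTwoA

open Cfsg Cfsg.FusionSystem Cfsg.Agent.H765.D3 Cfsg.Agent.H780.D4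
open Cfsg.Agent.H765.D3.Sy
open Cfsg.Agent.Hex.Defs (sh cr nm tr)
open Cfsg.Agent.H756.PU (Inv Ess NormAut TIAut AF)
open scoped commutatorElement

universe u

variable {F K : Type u} [Field F] [Field K] [Algebra F K] {φ : K ≃ₐ[F] K} [Cub φ]

/-! ### Invariance of `Z₂`, `Z₃` under `Aut(Q₂)` -/

theorem coe_comm (a b : Q2 φ) : ((⁅a, b⁆ : Q2 φ) : Sy φ) = ⁅(a : Sy φ), (b : Sy φ)⁆ := rfl

theorem map_comm (γ : MulAut (Q2 φ)) (a b : Q2 φ) :
    ((γ ⁅a, b⁆ : Q2 φ) : Sy φ) = ⁅((γ a : Q2 φ) : Sy φ), ((γ b : Q2 φ) : Sy φ)⁆ := by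
  rw [commutatorElement_def, map_mul, map_mul, map_mul, map_inv, map_inv]
  rfl

theorem comm_x3' {x y : Sy φ} (hx : x ∈ Q2 φ) (hy : y ∈ Q2 φ) :
    (⁅x, y⁆).x3 = cr φ x.x1 y.x5 - cr φ y.x1 x.x5 := by
  have := congrArg Sy.x3 (comm_mul x y)
  rw [mul_x3, mul_x3, mul_x3, comm_x1, mem_Q2.1 hx, mem_Q2.1 hy] at this
  rw [show (y * x).x6 = 0 by rw [mul_x6, mem_Q2.1 hx, mem_Q2.1 hy, add_zero]] at this
  simp only [cr_zero_left, zero_smul, add_zero] at this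
  linear_combination -this

theorem mem_Z3_Q2 {e : Sy φ} (he : e ∈ Q2 φ) : e ∈ Z3 φ ↔ ∀ y ∈ Q2 φ, ⁅y, e⁆ ∈ Z2 φ := by
  constructor
  · exact fun h y _ => comm_mem_Z2 h
  · intro h
    have h5 : e.x5 = 0 := cr_nondeg φ fun a => by
      have h1 := (h (u1 φ a) (u1_mem a)).2.2.2
      rw [comm_x3' (u1_mem a) he] at h1
      simpa [u1, cr_zero_right] using h1
    have h1 : e.x1 = 0 := cr_nondeg' φ fun c => by
      have h1 := (h (u5 φ c) (Z4_le_Q2 (u5_mem c))).2.2.2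
      rw [comm_x3' (Z4_le_Q2 (u5_mem c)) he] at h1
      simpa [u5, cr_zero_left] using h1
    exact ⟨h1, he, h5⟩

theorem inv_Z2 (γ : MulAut (Q2 φ)) {e : Q2 φ} (he : (e : Sy φ) ∈ Z2 φ) : ((γ e : Q2 φ) : Sy φ) ∈ Z2 φ := by
  rw [← centralizer_Q2, Subgroup.mem_centralizer_iff] at he ⊢
  intro y hy
  have h1 := he (γ⁻¹ ⟨y, hy⟩ : Q2 φ) (γ⁻¹ ⟨y, hy⟩ : Q2 φ).2
  have h2 : (γ⁻¹ ⟨y, hy⟩ : Q2 φ) * e = e * (γ⁻¹ ⟨y, hy⟩ : Q2 φ) := Subtype.ext h1
  have h3 := congrArg γ h2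
  rw [map_mul, map_mul, MulAut.apply_inv_self (Q2 φ) γ ⟨y, hy⟩] at h3
  exact congrArg Subtype.val h3

theorem inv_Z3 (γ : MulAut (Q2 φ)) {e : Q2 φ} (he : (e : Sy φ) ∈ Z3 φ) : ((γ e : Q2 φ) : Sy φ) ∈ Z3 φ := by
  rw [mem_Z3_Q2 (γ e).2]
  intro y hy
  have h1 := (mem_Z3_Q2 e.2).1 he (γ⁻¹ ⟨y, hy⟩ : Q2 φ) (γ⁻¹ ⟨y, hy⟩ : Q2 φ).2
  have h2 := inv_Z2 γ (e := ⁅(γ⁻¹ ⟨y, hy⟩ : Q2 φ), e⁆) h1
  rw [map_comm, MulAut.apply_inv_self (Q2 φ) γ ⟨y, hy⟩] at h2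
  exact h2

/-! ### The action on `Z₂` -/

/-- the elements of `Z₂` -/
def zz (φ : K ≃ₐ[F] K) [Cub φ] (v : F × F) : Q2 φ := ⟨⟨0, 0, 0, 0, v.1, v.2⟩, rfl⟩

/-- the coordinates `x2`, `x4` -/
def co (e : Q2 φ) : F × F := ((e : Sy φ).x2, (e : Sy φ).x4)

theorem zz_mem (v : F × F) : ((zz φ v : Q2 φ) : Sy φ) ∈ Z2 φ := ⟨rfl, rfl, rfl, rfl⟩

theorem co_zz (v : F × F) : co (zz φ v) = v := rfl

theorem zz_co {e : Q2 φ} (he : (e : Sy φ) ∈ Z2 φ) : zz φ (co e) = e := by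
  obtain ⟨h1, h6, h5, h3⟩ := he
  apply Subtype.ext
  ext
  · exact h1.symm
  · exact h6.symm
  · exact h5.symm
  · exact h3.symm
  · rfl
  · rfl

theorem zz_add (v w : F × F) : zz φ (v + w) = zz φ v * zz φ w := by
  apply Subtype.ext
  show (⟨0, 0, 0, 0, v.1 + w.1, v.2 + w.2⟩ : Sy φ) = ⟨0, 0, 0, 0, v.1, v.2⟩ * ⟨0, 0, 0, 0, w.1, w.2⟩
  ext
  all_goals simp only [mul_def]
  · rw [add_zero]
  · rw [add_zero]
  · rw [smul_zero, add_zero, add_zero]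
  · rw [cr_zero_left, zero_smul, add_zero, add_zero, add_zero]
  · rw [zero_mul, sh_zero, zero_mul, tr_zero, nm_zero, mul_zero]; ring
  · simp only [sh_zero, smul_zero, nm_zero, add_zero, mul_zero, tr_zero, sub_zero]

theorem co_mul {e e' : Q2 φ} (he : (e : Sy φ) ∈ Z2 φ) (he' : (e' : Sy φ) ∈ Z2 φ) : co (e * e') = co e + co e' := by
  rw [← zz_co he, ← zz_co he', ← zz_add]
  rfl

variable (φ) in
/-- the action on `Z₂` -/
noncomputable def piZ : MulAut (Q2 φ) →* Equiv.Perm (F × F) where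
  toFun γ :=
    { toFun := fun v => co (γ (zz φ v))
      invFun := fun v => co (γ⁻¹ (zz φ v))
      left_inv := fun v => by
        show co (γ⁻¹ (zz φ (co (γ (zz φ v))))) = v
        rw [zz_co (inv_Z2 γ (zz_mem v)), MulAut.inv_apply_self (Q2 φ) γ (zz φ v), co_zz]
      right_inv := fun v => by
        show co (γ (zz φ (co (γ⁻¹ (zz φ v))))) = v
        rw [zz_co (inv_Z2 γ⁻¹ (zz_mem v)), MulAut.apply_inv_self (Q2 φ) γ (zz φ v), co_zz] }
  map_one' := by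
    ext1 v
    rfl
  map_mul' γ δ := by
    ext1 v
    show co ((γ * δ) (zz φ v)) = co (γ (zz φ (co (δ (zz φ v)))))
    rw [zz_co (inv_Z2 δ (zz_mem v)), MulAut.mul_apply]

theorem piZ_apply (γ : MulAut (Q2 φ)) (v : F × F) : piZ φ γ v = co (γ (zz φ v)) := rfl

theorem piZ_co (γ : MulAut (Q2 φ)) {e : Q2 φ} (he : (e : Sy φ) ∈ Z2 φ) : piZ φ γ (co e) = co (γ e) := by
  rw [piZ_apply, zz_co he]

theorem piZ_add (γ : MulAut (Q2 φ)) (v w : F × F) : piZ φ γ (v + w) = piZ φ γ v + piZ φ γ w := by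
  rw [piZ_apply, zz_add, map_mul, co_mul (inv_Z2 γ (zz_mem v)) (inv_Z2 γ (zz_mem w))]
  rfl

/-! ### The action on `Z₃/Z₂` -/

/-- the elements of `U₃` -/
def ww (φ : K ≃ₐ[F] K) [Cub φ] (b : K) : Q2 φ := ⟨u3 φ b, rfl⟩

theorem ww_mem (b : K) : ((ww φ b : Q2 φ) : Sy φ) ∈ Z3 φ := ⟨rfl, rfl, rfl⟩

theorem ww_x3 (b : K) : ((ww φ b : Q2 φ) : Sy φ).x3 = b := rfl

theorem mul_x3' {x y : Sy φ} (hx : x ∈ Z3 φ) (hy : y ∈ Z3 φ) : (x * y).x3 = x.x3 + y.x3 := by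
  rw [mul_x3, hx.1, hy.2.1, cr_zero_left, zero_smul, add_zero, add_zero]

theorem ww_add (b c : K) : ww φ (b + c) = ww φ b * ww φ c := Subtype.ext (u3_add b c)

theorem x3_congr (γ : MulAut (Q2 φ)) {e e' : Q2 φ} (he : (e : Sy φ) ∈ Z3 φ) (he' : (e' : Sy φ) ∈ Z3 φ)
    (h : (e : Sy φ).x3 = (e' : Sy φ).x3) : ((γ e : Q2 φ) : Sy φ).x3 = ((γ e' : Q2 φ) : Sy φ).x3 := by
  have h1 : (((e⁻¹ * e' : Q2 φ)) : Sy φ) ∈ Z3 φ := mul_mem (inv_mem he) he'
  have h2 : (((e⁻¹ * e' : Q2 φ)) : Sy φ) ∈ Z2 φ := by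
    refine ⟨h1.1, h1.2.1, h1.2.2, ?_⟩
    have h3 := mul_x3' he h1
    have h4 : (e : Sy φ) * ((e⁻¹ * e' : Q2 φ) : Sy φ) = (e' : Sy φ) := by
      show (e : Sy φ) * ((e : Sy φ)⁻¹ * (e' : Sy φ)) = (e' : Sy φ)
      rw [mul_inv_cancel_left]
    rw [h4, ← h] at h3
    exact (left_eq_add.1 h3)
  have h5 : γ e' = γ e * γ (e⁻¹ * e') := by rw [← map_mul, mul_inv_cancel_left]
  have h6 := mul_x3' (inv_Z3 γ he) (Z2_le_Z3 (inv_Z2 γ h2))
  rw [(inv_Z2 γ h2).2.2.2, add_zero] at h6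
  rw [h5]
  exact h6.symm

variable (φ) in
/-- the action on `Z₃/Z₂` -/
noncomputable def piW : MulAut (Q2 φ) →* Equiv.Perm K where
  toFun γ :=
    { toFun := fun b => ((γ (ww φ b) : Q2 φ) : Sy φ).x3
      invFun := fun b => ((γ⁻¹ (ww φ b) : Q2 φ) : Sy φ).x3
      left_inv := fun b => by
        show ((γ⁻¹ (ww φ ((γ (ww φ b) : Q2 φ) : Sy φ).x3) : Q2 φ) : Sy φ).x3 = b
        rw [x3_congr γ⁻¹ (ww_mem _) (inv_Z3 γ (ww_mem b)) (ww_x3 _), MulAut.inv_apply_self (Q2 φ) γ (ww φ b)]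
        rfl
      right_inv := fun b => by
        show ((γ (ww φ ((γ⁻¹ (ww φ b) : Q2 φ) : Sy φ).x3) : Q2 φ) : Sy φ).x3 = b
        rw [x3_congr γ (ww_mem _) (inv_Z3 γ⁻¹ (ww_mem b)) (ww_x3 _), MulAut.apply_inv_self (Q2 φ) γ (ww φ b)]
        rfl }
  map_one' := by
    ext1 b
    rfl
  map_mul' γ δ := by
    ext1 b
    show (((γ * δ) (ww φ b) : Q2 φ) : Sy φ).x3 = ((γ (ww φ ((δ (ww φ b) : Q2 φ) : Sy φ).x3) : Q2 φ) : Sy φ).x3
    rw [x3_congr γ (ww_mem _) (inv_Z3 δ (ww_mem b)) (ww_x3 _), MulAut.mul_apply]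

theorem piW_x3 (γ : MulAut (Q2 φ)) {e : Q2 φ} (he : (e : Sy φ) ∈ Z3 φ) :
    piW φ γ (e : Sy φ).x3 = ((γ e : Q2 φ) : Sy φ).x3 :=
  x3_congr γ (ww_mem _) he (ww_x3 _)

/-! ### The pairing -/

theorem comm_ww (e : Q2 φ) (b : K) : ⁅e, ww φ b⁆ = zz φ (tr φ ((e : Sy φ).x1 * b), -tr φ (b * (e : Sy φ).x5)) := by
  have h0 : ((⁅e, ww φ b⁆ : Q2 φ) : Sy φ) ∈ Z2 φ := comm_mem_Z2 (ww_mem b)
  rw [← zz_co h0]
  congr 1
  apply Prod.ext
  · show (⁅(e : Sy φ), ((ww φ b : Q2 φ) : Sy φ)⁆).x2 = _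
    rw [comm_x2' (ww_mem b)]
    rfl
  · show (⁅(e : Sy φ), ((ww φ b : Q2 φ) : Sy φ)⁆).x4 = _
    rw [comm_x4' (ww_mem b), mem_Q2.1 e.2]
    show 0 * _ - tr φ (b * (e : Sy φ).x5) + 0 * _ = _
    ring

/-- **The pairing.** -/
theorem pair (γ : MulAut (Q2 φ)) (e : Q2 φ) (b : K) :
    piZ φ γ (tr φ ((e : Sy φ).x1 * b), -tr φ (b * (e : Sy φ).x5)) =
      (tr φ (((γ e : Q2 φ) : Sy φ).x1 * piW φ γ b), -tr φ (piW φ γ b * ((γ e : Q2 φ) : Sy φ).x5)) := by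
  rw [piZ_apply, ← comm_ww]
  have h1 := map_comm γ e (ww φ b)
  have h3 := inv_Z3 γ (ww_mem b)
  apply Prod.ext
  · show ((γ ⁅e, ww φ b⁆ : Q2 φ) : Sy φ).x2 = _
    rw [h1, comm_x2' h3]
    rfl
  · show ((γ ⁅e, ww φ b⁆ : Q2 φ) : Sy φ).x4 = _
    rw [h1, comm_x4' h3, mem_Q2.1 (γ e).2]
    show 0 * _ - tr φ (piW φ γ b * ((γ e : Q2 φ) : Sy φ).x5) + 0 * _ = _
    ring

/-- the action on `Q₂/Z₃` is determined -/
theorem same_of_eq {γ δ : MulAut (Q2 φ)} (h1 : piZ φ γ = piZ φ δ) (h2 : piW φ γ = piW φ δ) : Same2 γ δ := by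
  refine ⟨fun e => ?_, fun e he => ?_, fun e he => ?_⟩
  · have h3 : ∀ b : K, (tr φ (((γ e : Q2 φ) : Sy φ).x1 * b), -tr φ (b * ((γ e : Q2 φ) : Sy φ).x5)) =
        (tr φ (((δ e : Q2 φ) : Sy φ).x1 * b), -tr φ (b * ((δ e : Q2 φ) : Sy φ).x5)) := by
      intro b
      obtain ⟨c, rfl⟩ := (piW φ γ).surjective b
      rw [← pair, h1, h2, ← pair]
    constructor
    · rw [← sub_eq_zero]
      apply tr_nondeg φ
      intro t
      have h4 : tr φ (((γ e : Q2 φ) : Sy φ).x1 * t) = tr φ (((δ e : Q2 φ) : Sy φ).x1 * t) :=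
        congrArg Prod.fst (h3 t)
      rw [sub_mul, tr_sub, h4, sub_self]
    · rw [← sub_eq_zero]
      apply tr_nondeg φ
      intro t
      have h4 : -tr φ (t * ((γ e : Q2 φ) : Sy φ).x5) = -tr φ (t * ((δ e : Q2 φ) : Sy φ).x5) :=
        congrArg Prod.snd (h3 t)
      rw [sub_mul, tr_sub, mul_comm _ t, mul_comm _ t, neg_inj.1 h4, sub_self]
  · rw [← piW_x3 γ he, ← piW_x3 δ he, h2]
  · have h3 : co (γ e) = co (δ e) := by rw [← piZ_co γ he, ← piZ_co δ he, h1]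
    exact ⟨congrArg Prod.fst h3, congrArg Prod.snd h3⟩

/-- elements acting trivially on `Z₃/Z₂` act linearly on `Z₂` -/
theorem piZ_smul {γ : MulAut (Q2 φ)} (h : piW φ γ = 1) (s : F) (v : F × F) : piZ φ γ (s • v) = s • piZ φ γ v := by
  obtain ⟨t, ht⟩ := exists_tr_ne φ
  obtain ⟨t0, ht0⟩ : ∃ t0, tr φ t0 = 1 := ⟨(tr φ t)⁻¹ • t, by rw [tr_smul, inv_mul_cancel₀ ht]⟩
  set e : Q2 φ := ⟨⟨v.1 • 1, 0, (-v.2) • 1, 0, 0, 0⟩, rfl⟩ with he
  have key : ∀ r : F, piZ φ γ (r • v) =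
      r • (tr φ (((γ e : Q2 φ) : Sy φ).x1 * t0), -tr φ (t0 * ((γ e : Q2 φ) : Sy φ).x5)) := by
    intro r
    have h1 := pair γ e (r • t0)
    have e1 : tr φ ((e : Sy φ).x1 * (r • t0)) = r * v.1 := by
      show tr φ ((v.1 • (1 : K)) * (r • t0)) = r * v.1
      rw [smul_mul_smul_comm, one_mul, tr_smul, ht0]; ring
    have e2 : -tr φ ((r • t0) * (e : Sy φ).x5) = r * v.2 := by
      show -tr φ ((r • t0) * ((-v.2) • (1 : K))) = r * v.2
      rw [smul_mul_smul_comm, mul_one, tr_smul, ht0]; ring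
    rw [e1, e2, h, Equiv.Perm.one_apply, mul_smul_comm, smul_mul_assoc, tr_smul, tr_smul] at h1
    have e3 : r • v = (r * v.1, r * v.2) := rfl
    rw [e3, h1]
    apply Prod.ext
    · rfl
    · show -(r * _) = r * -_
      ring
  have h1 := key 1
  rw [one_smul, one_smul] at h1
  rw [key s, h1]

/-- `M v` -/
def ml (M : Matrix (Fin 2) (Fin 2) F) (v : F × F) : F × F :=
  (M 0 0 * v.1 + M 0 1 * v.2, M 1 0 * v.1 + M 1 1 * v.2)

theorem ml_mul (M N : Matrix (Fin 2) (Fin 2) F) (v : F × F) : ml (M * N) v = ml M (ml N v) := by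
  apply Prod.ext
  · simp only [ml, Matrix.mul_apply, Fin.sum_univ_two]; ring
  · simp only [ml, Matrix.mul_apply, Fin.sum_univ_two]; ring

theorem exists_matrix {γ : MulAut (Q2 φ)} (h : piW φ γ = 1) :
    ∃ M : Matrix (Fin 2) (Fin 2) F, ∀ v, piZ φ γ v = ml M v := by
  refine ⟨!![(piZ φ γ (1, 0)).1, (piZ φ γ (0, 1)).1; (piZ φ γ (1, 0)).2, (piZ φ γ (0, 1)).2], fun v => ?_⟩
  have e1 : v = v.1 • ((1, 0) : F × F) + v.2 • ((0, 1) : F × F) := by
    apply Prod.ext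
    · show v.1 = v.1 * 1 + v.2 * 0
      ring
    · show v.2 = v.1 * 0 + v.2 * 1
      ring
  have e2 : piZ φ γ v = v.1 • piZ φ γ (1, 0) + v.2 • piZ φ γ (0, 1) := by
    conv_lhs => rw [e1]
    rw [piZ_add, piZ_smul h, piZ_smul h]
  rw [e2]
  apply Prod.ext
  · show v.1 * _ + v.2 * _ = _ * v.1 + _ * v.2
    simp only [Matrix.of_apply, Matrix.cons_val', Matrix.cons_val_zero, Matrix.cons_val_one, Matrix.cons_val_fin_one]
    ring
  · show v.1 * _ + v.2 * _ = _ * v.1 + _ * v.2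
    simp only [Matrix.of_apply, Matrix.cons_val', Matrix.cons_val_zero, Matrix.cons_val_one, Matrix.cons_val_fin_one]
    ring

/-! ### Conjugations -/

theorem conj_w {c : MulAut (Q2 φ)} {x : Sy φ} (hc : ∀ e : Q2 φ, ((c e : Q2 φ) : Sy φ) = x * e * x⁻¹) :
    piW φ c = 1 := by
  ext1 b
  rw [Equiv.Perm.one_apply]
  show ((c (ww φ b) : Q2 φ) : Sy φ).x3 = b
  have h1 : x * ((ww φ b : Q2 φ) : Sy φ) * x⁻¹ = ⁅x, ((ww φ b : Q2 φ) : Sy φ)⁆ * ((ww φ b : Q2 φ) : Sy φ) := by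
    rw [commutatorElement_def]; group
  have h2 := comm_mem_Z2 (x := x) (ww_mem (φ := φ) b)
  rw [hc, h1, mul_x3' (Z2_le_Z3 h2) (ww_mem b), h2.2.2.2, zero_add]
  rfl

theorem conj_z {c : MulAut (Q2 φ)} {x : Sy φ} (hc : ∀ e : Q2 φ, ((c e : Q2 φ) : Sy φ) = x * e * x⁻¹) (v : F × F) :
    piZ φ c v = (v.1, x.x6 * v.1 + v.2) := by
  have h1 : x * ((zz φ v : Q2 φ) : Sy φ) * x⁻¹ = ⁅x, ((zz φ v : Q2 φ) : Sy φ)⁆ * ((zz φ v : Q2 φ) : Sy φ) := by
    rw [commutatorElement_def]; group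
  have h2 : c (zz φ v) = zz φ (0, x.x6 * v.1) * zz φ v := by
    apply Subtype.ext
    rw [hc, h1, comm_Z2 (zz_mem v)]
    rfl
  rw [piZ_apply, h2, ← zz_add, co_zz]
  apply Prod.ext
  · show 0 + v.1 = v.1
    rw [zero_add]
  · rfl

theorem exists_conj (x : Sy φ) : ∃ c ∈ autInducedBy ⊤ (Q2 φ), ∀ e : Q2 φ, ((c e : Q2 φ) : Sy φ) = x * e * x⁻¹ := by
  refine ⟨MulAut.conjNormal x, (H802.mem_autInducedBy_iff _ _ _).2 ⟨x, trivial, fun e => ?_⟩, fun e => ?_⟩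
  · rfl
  · rfl

/-- lower unipotent matrices -/
theorem exists_low (r : F) : ∃ c ∈ autInducedBy ⊤ (Q2 φ), piW φ c = 1 ∧ ∀ v : F × F, piZ φ c v = ml !![1, 0; r, 1] v := by
  obtain ⟨c, hc, h⟩ := exists_conj (u6 φ r)
  refine ⟨c, hc, conj_w h, fun v => ?_⟩
  rw [conj_z h]
  apply Prod.ext
  · show v.1 = 1 * v.1 + 0 * v.2
    ring
  · show r * v.1 + v.2 = r * v.1 + 1 * v.2
    ring

theorem aut_low {c : MulAut (Q2 φ)} (hc : c ∈ autInducedBy ⊤ (Q2 φ)) :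
    piW φ c = 1 ∧ ∃ r : F, ∀ v : F × F, piZ φ c v = ml !![1, 0; r, 1] v := by
  obtain ⟨x, -, h⟩ := (H802.mem_autInducedBy_iff _ _ _).1 hc
  refine ⟨conj_w h, x.x6, fun v => ?_⟩
  rw [conj_z h]
  apply Prod.ext
  · show v.1 = 1 * v.1 + 0 * v.2
    ring
  · show x.x6 * v.1 + v.2 = x.x6 * v.1 + 1 * v.2
    ring

/-! ### The kernel -/

theorem ker_pow {γ : MulAut (Q2 φ)} (h1 : piZ φ γ = 1) (h2 : piW φ γ = 1) {N : ℕ} (hN : ∀ x : Q2 φ, x ^ N = 1) :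
    γ ^ (N * N) = 1 := by
  have hs := same_of_eq (γ := γ) (δ := 1) (by rw [h1, map_one]) (by rw [h2, map_one])
  have hV : ∀ v ∈ (Z2 φ).subgroupOf (Q2 φ), ∀ x : Q2 φ, v * x = x * v := by
    intro v hv x
    have h3 : (v : Sy φ) ∈ Z2 φ := hv
    rw [← centralizer_Q2, Subgroup.mem_centralizer_iff] at h3
    exact Subtype.ext (h3 x x.2).symm
  have hfix : ∀ v ∈ (Z2 φ).subgroupOf (Q2 φ), γ v = v := by
    intro v hv
    have h3 : (v : Sy φ) ∈ Z2 φ := hv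
    rw [← zz_co (inv_Z2 γ h3), ← piZ_co γ h3, h1]
    exact zz_co h3
  have s0 : ∀ x : Q2 φ, x⁻¹ * γ x ∈ (Z3 φ).subgroupOf (Q2 φ) := by
    intro x
    obtain ⟨e1, e5⟩ := hs.1 x
    show (x : Sy φ)⁻¹ * ((γ x : Q2 φ) : Sy φ) ∈ Z3 φ
    have e1' : ((γ x : Q2 φ) : Sy φ).x1 = (x : Sy φ).x1 := e1
    have e5' : ((γ x : Q2 φ) : Sy φ).x5 = (x : Sy φ).x5 := e5
    refine ⟨?_, ?_, ?_⟩
    · rw [mul_x1, inv_x1, e1', neg_add_cancel]
    · rw [mul_x6, inv_x6, mem_Q2.1 x.2, mem_Q2.1 (γ x).2, neg_zero, add_zero]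
    · rw [mul_x5, inv_x5, e5', mem_Q2.1 x.2, mem_Q2.1 (γ x).2, zero_smul, zero_smul, add_zero, add_zero, neg_add_cancel]
  have s1 : ∀ x ∈ (Z3 φ).subgroupOf (Q2 φ), x⁻¹ * γ x ∈ (Z2 φ).subgroupOf (Q2 φ) := by
    intro x hx
    have h3 : (x : Sy φ) ∈ Z3 φ := hx
    have h4 := mul_mem (inv_mem h3) (inv_Z3 γ h3)
    show (x : Sy φ)⁻¹ * ((γ x : Q2 φ) : Sy φ) ∈ Z2 φ
    refine ⟨h4.1, h4.2.1, h4.2.2, ?_⟩
    have h5 := mul_x3' h3 h4
    rw [mul_inv_cancel_left, hs.2.1 x h3] at h5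
    exact left_eq_add.1 h5
  have s2 : ∀ x : Q2 φ, x⁻¹ * (γ ^ N) x ∈ (Z2 φ).subgroupOf (Q2 φ) := fun x =>
    H294.PU.step_triv hV γ (fun v hv => by rw [hfix v hv]; exact hv) s1 hN x (s0 x)
  have hfix' : ∀ v ∈ (Z2 φ).subgroupOf (Q2 φ), (γ ^ N) v = v := by
    intro v hv
    generalize N = m
    induction m with
    | zero => rfl
    | succ m ih => rw [pow_succ, MulAut.mul_apply, hfix v hv, ih]
  have s3 : ∀ x : Q2 φ, x⁻¹ * ((γ ^ N) ^ N) x ∈ (⊥ : Subgroup (Q2 φ)) := fun x =>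
    H294.PU.step_triv (V := ⊥) (N1 := (Z2 φ).subgroupOf (Q2 φ)) (fun v hv x => by
      rw [Subgroup.mem_bot] at hv; subst hv; simp) (γ ^ N)
      (fun v hv => by rw [Subgroup.mem_bot] at hv ⊢; subst hv; simp)
      (fun v hv => by rw [hfix' v hv, Subgroup.mem_bot]; group) hN x (s2 x)
  rw [pow_mul]
  ext1 x
  have h3 := Subgroup.mem_bot.1 (s3 x)
  rw [MulAut.one_apply]
  exact (inv_mul_eq_one.1 h3).symm

theorem pai {X : Type*} (f : Equiv.Perm X) (x : X) : f (f⁻¹ x) = x := by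
  rw [← Equiv.Perm.mul_apply, mul_inv_cancel, Equiv.Perm.one_apply]

/-! ### Matrices -/

/-- a set of matrices closed under products containing the lower unipotents and the Weyl element contains `SL₂(F)` -/
theorem gen_sl {P : Matrix (Fin 2) (Fin 2) F → Prop} (hmul : ∀ A B, P A → P B → P (A * B))
    (hL : ∀ r, P !![1, 0; r, 1]) (hw : P !![0, 1; -1, 0]) (M : Matrix (Fin 2) (Fin 2) F) (hM : M.det = 1) : P M := by
  have hw3 : P !![0, -1; 1, 0] := by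
    have h1 := hmul _ _ (hmul _ _ hw hw) hw
    have h2 : (!![0, 1; -1, 0] * !![0, 1; -1, 0] * !![0, 1; -1, 0] : Matrix (Fin 2) (Fin 2) F) = !![0, -1; 1, 0] := by
      ext i j; fin_cases i <;> fin_cases j <;> simp [Matrix.mul_apply, Fin.sum_univ_two]
    rwa [h2] at h1
  have hU : ∀ r, P !![1, r; 0, 1] := by
    intro r
    have h1 := hmul _ _ (hmul _ _ hw (hL (-r))) hw3
    have h2 : (!![0, 1; -1, 0] * !![1, 0; -r, 1] * !![0, -1; 1, 0] : Matrix (Fin 2) (Fin 2) F) = !![1, r; 0, 1] := by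
      ext i j; fin_cases i <;> fin_cases j <;> simp [Matrix.mul_apply, Fin.sum_univ_two]
    rwa [h2] at h1
  have hc : ∀ M : Matrix (Fin 2) (Fin 2) F, M.det = 1 → M 0 1 ≠ 0 → P M := by
    intro M hdet h0
    rw [Matrix.det_fin_two] at hdet
    have h1 := hmul _ _ (hmul _ _ (hL ((M 1 1 - 1) / M 0 1)) (hU (M 0 1))) (hL ((M 0 0 - 1) / M 0 1))
    have h2 : (!![1, 0; (M 1 1 - 1) / M 0 1, 1] * !![1, M 0 1; 0, 1] * !![1, 0; (M 0 0 - 1) / M 0 1, 1] :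
        Matrix (Fin 2) (Fin 2) F) = M := by
      ext i j
      fin_cases i <;> fin_cases j
      · simp [Matrix.mul_apply, Fin.sum_univ_two]; field_simp; ring
      · simp [Matrix.mul_apply, Fin.sum_univ_two]
      · simp [Matrix.mul_apply, Fin.sum_univ_two]; field_simp; linear_combination hdet
      · simp [Matrix.mul_apply, Fin.sum_univ_two]; field_simp; ring
    rwa [h2] at h1
  by_cases h0 : M 0 1 = 0
  · have hdet := hM
    rw [Matrix.det_fin_two, h0, zero_mul, sub_zero] at hdet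
    have h00 : M 0 0 ≠ 0 := by
      intro h1
      rw [h1, zero_mul] at hdet
      exact zero_ne_one hdet
    have h1 : P (M * !![0, 1; -1, 0]) := by
      apply hc
      · rw [Matrix.det_mul, hM, Matrix.det_fin_two_of]; ring
      · simp [Matrix.mul_apply, Fin.sum_univ_two, h00]
    have h2 := hmul _ _ h1 hw3
    have h3 : M * !![0, 1; -1, 0] * !![0, -1; 1, 0] = M := by
      rw [mul_assoc]
      have h4 : (!![0, 1; -1, 0] * !![0, -1; 1, 0] : Matrix (Fin 2) (Fin 2) F) = 1 := by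
        ext i j; fin_cases i <;> fin_cases j <;> simp [Matrix.mul_apply, Fin.sum_univ_two]
      rw [h4, mul_one]
    rwa [h3] at h2
  · exact hc M hM h0

/-- the matrices represented in `Γ` -/
def Rep (Γ : Subgroup (MulAut (Q2 φ))) (M : Matrix (Fin 2) (Fin 2) F) : Prop :=
  ∃ γ ∈ Γ, piW φ γ = 1 ∧ ∀ v, piZ φ γ v = ml M v

theorem Rep.mul {Γ : Subgroup (MulAut (Q2 φ))} {A B : Matrix (Fin 2) (Fin 2) F} (hA : Rep Γ A) (hB : Rep Γ B) :
    Rep Γ (A * B) := by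
  obtain ⟨a, ha, h1, h2⟩ := hA
  obtain ⟨b, hb, h3, h4⟩ := hB
  refine ⟨a * b, mul_mem ha hb, by rw [map_mul, h1, h3, mul_one], fun v => ?_⟩
  rw [map_mul, Equiv.Perm.mul_apply, h4, h2, ml_mul]

/-- two unipotent subgroups generate the Weyl element -/
theorem rep_w {Γ : Subgroup (MulAut (Q2 φ))} (hL : ∀ r, Rep Γ !![1, 0; r, 1]) {A : Matrix (Fin 2) (Fin 2) F}
    (hA : Rep Γ A) (h0 : A 0 1 ≠ 0) (hd : A.det ≠ 0) : Rep Γ !![0, 1; -1, 0] := by
  set b := A 0 1 with hb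
  set δ := A.det with hδ
  have hδ' : δ = A 0 0 * A 1 1 - b * A 1 0 := by rw [hδ, Matrix.det_fin_two]
  have hB := ((hL (-(A 1 1) / b)).mul hA).mul (hL (-(A 0 0) / b))
  have e1 : (!![1, 0; -(A 1 1) / b, 1] * A * !![1, 0; -(A 0 0) / b, 1] : Matrix (Fin 2) (Fin 2) F) =
      !![0, b; -δ / b, 0] := by
    obtain ⟨a, b', c, d, hA'⟩ : ∃ a b' c d, A = !![a, b'; c, d] := ⟨_, _, _, _, Matrix.eta_fin_two A⟩
    have h00 : A 0 0 = a := by rw [hA']; rfl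
    have h01 : A 0 1 = b' := by rw [hA']; rfl
    have h10 : A 1 0 = c := by rw [hA']; rfl
    have h11 : A 1 1 = d := by rw [hA']; rfl
    rw [h00, h11, h10] at hδ'
    rw [h01] at hb
    rw [h00, h11, hA']
    subst hb
    rw [hδ']
    ext i j
    fin_cases i <;> fin_cases j
    · simp [Matrix.mul_apply, Fin.sum_univ_two]; field_simp; ring
    · simp [Matrix.mul_apply, Fin.sum_univ_two]
    · simp [Matrix.mul_apply, Fin.sum_univ_two]; field_simp; ring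
    · simp [Matrix.mul_apply, Fin.sum_univ_two]; field_simp; ring
  rw [e1] at hB
  have hU : Rep Γ !![1, 1; 0, 1] := by
    obtain ⟨β, hβ, h1, h2⟩ := hB
    obtain ⟨c, hc, h3, h4⟩ := hL (-δ / b ^ 2)
    refine ⟨β * c * β⁻¹, mul_mem (mul_mem hβ hc) (inv_mem hβ), by rw [map_mul, map_mul, map_inv, h1, h3]; rfl,
      fun v => ?_⟩
    have h5 : (piZ φ β)⁻¹ v = (-(b / δ) * v.2, v.1 / b) := by
      apply (piZ φ β).injective
      rw [pai, h2]
      apply Prod.ext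
      · show v.1 = 0 * (-(b / δ) * v.2) + b * (v.1 / b)
        field_simp
        ring
      · show v.2 = -δ / b * (-(b / δ) * v.2) + 0 * (v.1 / b)
        field_simp
        ring
    rw [map_mul, map_mul, map_inv, Equiv.Perm.mul_apply, Equiv.Perm.mul_apply, h5, h4, h2]
    apply Prod.ext
    · simp only [ml, Matrix.of_apply, Matrix.cons_val', Matrix.cons_val_zero, Matrix.cons_val_one,
        Matrix.cons_val_fin_one]
      field_simp
      ring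
    · simp only [ml, Matrix.of_apply, Matrix.cons_val', Matrix.cons_val_zero, Matrix.cons_val_one,
        Matrix.cons_val_fin_one]
      field_simp
      ring
  have h6 := (hU.mul (hL (-1))).mul hU
  have e2 : (!![1, 1; 0, 1] * !![1, 0; -1, 1] * !![1, 1; 0, 1] : Matrix (Fin 2) (Fin 2) F) = !![0, 1; -1, 0] := by
    ext i j; fin_cases i <;> fin_cases j <;> simp [Matrix.mul_apply, Fin.sum_univ_two]
  rwa [e2] at h6

/-! ### The group `Γ` -/

theorem pow_low {x : MulAut (Q2 φ)} {r : F} (h : ∀ v : F × F, piZ φ x v = ml !![1, 0; r, 1] v) (j : ℕ) (v : F × F) :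
    ((piZ φ x) ^ j) v = (v.1, j * r * v.1 + v.2) := by
  induction j with
  | zero =>
    rw [pow_zero, Equiv.Perm.one_apply]
    apply Prod.ext
    · rfl
    · show v.2 = ((0 : ℕ) : F) * r * v.1 + v.2
      rw [Nat.cast_zero]; ring
  | succ j ih =>
    rw [pow_succ', Equiv.Perm.mul_apply, ih, h]
    apply Prod.ext
    · show 1 * v.1 + 0 * (j * r * v.1 + v.2) = v.1
      ring
    · show r * v.1 + 1 * (j * r * v.1 + v.2) = ((j + 1 : ℕ) : F) * r * v.1 + v.2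
      rw [Nat.cast_add, Nat.cast_one]; ring

/-- lower triangular elements of order `p` -/
theorem unip {p : ℕ} [Fact p.Prime] [CharP F p] {δ : MulAut (Q2 φ)} (hδ : (piZ φ δ) ^ p = 1)
    {M : Matrix (Fin 2) (Fin 2) F} (hM : ∀ v, piZ φ δ v = ml M v) (h01 : M 0 1 = 0) : M 0 0 = 1 ∧ M 1 1 = 1 := by
  have h1 : ∀ j : ℕ, (((piZ φ δ) ^ j) (1, 0)).1 = M 0 0 ^ j := by
    intro j
    induction j with
    | zero => rw [pow_zero, pow_zero, Equiv.Perm.one_apply]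
    | succ j ih =>
      rw [pow_succ', Equiv.Perm.mul_apply, hM]
      show M 0 0 * _ + M 0 1 * _ = _
      rw [ih, h01]; ring
  have h2 : ∀ j : ℕ, ((piZ φ δ) ^ j) (0, 1) = (0, M 1 1 ^ j) := by
    intro j
    induction j with
    | zero => rw [pow_zero, pow_zero, Equiv.Perm.one_apply]
    | succ j ih =>
      rw [pow_succ', Equiv.Perm.mul_apply, hM, ih]
      apply Prod.ext
      · show M 0 0 * 0 + M 0 1 * _ = 0
        rw [h01]; ring
      · show M 1 0 * 0 + M 1 1 * _ = _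
        ring
  have h3 := h1 p
  have h4 := h2 p
  rw [hδ, Equiv.Perm.one_apply] at h3 h4
  constructor
  · apply frobenius_inj F p
    rw [frobenius_def, frobenius_def, one_pow]
    exact h3.symm
  · apply frobenius_inj F p
    rw [frobenius_def, frobenius_def, one_pow]
    exact (congrArg Prod.snd h4).symm

theorem ml_low {M : Matrix (Fin 2) (Fin 2) F} (h00 : M 0 0 = 1) (h01 : M 0 1 = 0) (h11 : M 1 1 = 1) (v : F × F) :
    ml M v = ml !![1, 0; M 1 0, 1] v := by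
  apply Prod.ext
  · show M 0 0 * v.1 + M 0 1 * v.2 = 1 * v.1 + 0 * v.2
    rw [h00, h01]
  · show M 1 0 * v.1 + M 1 1 * v.2 = M 1 0 * v.1 + 1 * v.2
    rw [h11]

theorem exists_restr (d : MulAut (Sy φ)) : ∃ δ : MulAut (Q2 φ), IsR d δ := by
  refine ⟨{ toFun := fun e => ⟨d e, map_Q2 d e.2⟩
            invFun := fun e => ⟨d.symm e, map_Q2 d.symm e.2⟩
            left_inv := fun e => Subtype.ext (d.symm_apply_apply _)
            right_inv := fun e => Subtype.ext (d.apply_symm_apply _)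
            map_mul' := fun x y => Subtype.ext (map_mul d _ _) }, fun e => rfl⟩

theorem isTor_unique {d d' : MulAut (Sy φ)} {s : K} {t : F} {τ : K ≃+* K} {ρ : F ≃+* F} (hd : IsTor d s t τ ρ)
    (hd' : IsTor d' s t τ ρ) : d = d' := by
  ext1 g
  apply Sy.ext
  · rw [hd.x1, hd'.x1]
  · rw [hd.x6, hd'.x6]
  · rw [hd.x5, hd'.x5]
  · rw [hd.x3, hd'.x3]
  · rw [hd.x2, hd'.x2]
  · rw [hd.x4, hd'.x4]

section Gamma

variable {p n : ℕ} (hG : StGrpD.{u}) (h : HypD φ p n) {Γ : Subgroup (MulAut (Q2 φ))} {D : Subgroup (MulAut (Sy φ))}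
  (hp : Par p (Q2 φ) Γ D)
include hG h hp

/-- the kernel lies in `Aut_S(Q₂)` -/
theorem ker_le {γ : MulAut (Q2 φ)} (hγ : γ ∈ Γ) (h1 : piZ φ γ = 1) (h2 : piW φ γ = 1) :
    γ ∈ autInducedBy ⊤ (Q2 φ) := by
  have hN : ∀ x : Q2 φ, x ^ (p ^ (n * 12)) = 1 := by
    intro x
    apply Subtype.ext
    have h3 := (hG h).1
    rw [← pow_mul] at h3
    rw [← h3]
    exact pow_card_eq_one'
  have hP : IsPGroup p ↥(Γ ⊓ ((piZ φ).ker ⊓ (piW φ).ker)) := by
    rintro ⟨x, hx, hx1, hx2⟩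
    refine ⟨n * 12 + n * 12, Subtype.ext ?_⟩
    show x ^ p ^ (n * 12 + n * 12) = 1
    rw [pow_add]
    exact ker_pow hx1 hx2 hN
  obtain ⟨g, hg, hs⟩ := hp.syl _ inf_le_left hP
  have h3 : g⁻¹ * γ * g ∈ Γ ⊓ ((piZ φ).ker ⊓ (piW φ).ker) := by
    refine Subgroup.mem_inf.2 ⟨mul_mem (mul_mem (inv_mem hg) hγ) hg, Subgroup.mem_inf.2 ⟨?_, ?_⟩⟩
    · show piZ φ (g⁻¹ * γ * g) = 1
      rw [map_mul, map_mul, map_inv, h1, mul_one, inv_mul_cancel]
    · show piW φ (g⁻¹ * γ * g) = 1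
      rw [map_mul, map_mul, map_inv, h2, mul_one, inv_mul_cancel]
  have h4 := hs _ h3
  have h5 : g * (g⁻¹ * γ * g) * g⁻¹ = γ := by group
  rwa [h5] at h4

theorem mem_aut {γ : MulAut (Q2 φ)} (hγ : γ ∈ Γ) (h2 : piW φ γ = 1) {r : F}
    (h1 : ∀ v : F × F, piZ φ γ v = ml !![1, 0; r, 1] v) : γ ∈ autInducedBy ⊤ (Q2 φ) := by
  obtain ⟨c, hc, hcw, hcz⟩ := exists_low (φ := φ) r
  have h3 : piZ φ c = piZ φ γ := by
    ext1 v
    rw [hcz, h1]
  have h4 : c⁻¹ * γ ∈ autInducedBy ⊤ (Q2 φ) := by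
    apply ker_le hG h hp (mul_mem (inv_mem (hp.indu hc)) hγ)
    · rw [map_mul, map_inv, h3, inv_mul_cancel]
    · rw [map_mul, map_inv, hcw, h2]; rfl
  have h5 := mul_mem hc h4
  rwa [mul_inv_cancel_left] at h5

omit hG hp in
theorem char_F : CharP F p := by
  have := h.char
  exact (algebraMap F K).charP (algebraMap F K).injective p

omit hG hp in
theorem pow_conj {x : MulAut (Q2 φ)} (hx : x ∈ autInducedBy ⊤ (Q2 φ)) (γ : MulAut (Q2 φ)) :
    piW φ (γ * x * γ⁻¹) = 1 ∧ (piZ φ (γ * x * γ⁻¹)) ^ p = 1 := by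
  obtain ⟨h1, r, h2⟩ := aut_low hx
  have := char_F h
  constructor
  · rw [map_mul, map_mul, h1, map_inv, mul_one, mul_inv_cancel]
  · rw [map_mul, map_mul, map_inv, conj_pow]
    have h3 : (piZ φ x) ^ p = 1 := by
      ext1 v
      rw [pow_low h2, CharP.cast_eq_zero, zero_mul, zero_mul, zero_add]
      rfl
    rw [h3, mul_one, mul_inv_cancel]

/-- the elements fixing the line `Z₁` normalize `Aut_S(Q₂)` -/
theorem normAut {γ : MulAut (Q2 φ)} (hγ : γ ∈ Γ) (h1 : (piZ φ γ (0, 1)).1 = 0) : NormAut ⊤ γ := by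
  intro x hx
  have := char_F h
  have : Fact p.Prime := ⟨h.pp⟩
  obtain ⟨h2, h3⟩ := pow_conj h hx γ
  obtain ⟨-, r, hr⟩ := aut_low hx
  obtain ⟨M, hM⟩ := exists_matrix h2
  have h4 : (piZ φ γ (0, 1)).2 ≠ 0 := by
    intro h5
    have h6 : piZ φ γ (0, 1) = piZ φ γ 0 := by
      have h7 : piZ φ γ 0 = 0 := by
        have := piZ_add γ 0 0
        rw [add_zero] at this
        exact left_eq_add.1 this
      rw [h7]
      exact Prod.ext h1 h5
    have h7 := congrArg Prod.snd ((piZ φ γ).injective h6)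
    exact one_ne_zero h7
  have h5 : piZ φ (γ * x * γ⁻¹) (piZ φ γ (0, 1)) = piZ φ γ (0, 1) := by
    rw [← Equiv.Perm.mul_apply, ← map_mul, inv_mul_cancel_right, map_mul, Equiv.Perm.mul_apply, hr]
    congr 1
    apply Prod.ext
    · show 1 * 0 + 0 * 1 = 0
      ring
    · show r * 0 + 1 * 1 = 1
      ring
  have h01 : M 0 1 = 0 := by
    have h6 := congrArg Prod.fst (hM (piZ φ γ (0, 1)))
    rw [h5] at h6
    simp only [ml] at h6
    rw [h1, mul_zero, zero_add] at h6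
    rcases mul_eq_zero.1 h6.symm with h7 | h7
    · exact h7
    · exact (h4 h7).elim
  obtain ⟨h00, h11⟩ := unip h3 hM h01
  exact mem_aut hG h hp (mul_mem (mul_mem hγ (hp.indu hx)) (inv_mem hγ)) h2 (r := M 1 0)
    fun v => (hM v).trans (ml_low h00 h01 h11 v)

/-- **`SL₂(F)` is represented in `Γ`.** -/
theorem rep_all (M : Matrix (Fin 2) (Fin 2) F) (hM : M.det = 1) : Rep Γ M := by
  have := char_F h
  have : Fact p.Prime := ⟨h.pp⟩
  have hL : ∀ r, Rep Γ !![1, 0; r, 1] := fun r => by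
    obtain ⟨c, hc, h1, h2⟩ := exists_low (φ := φ) r
    exact ⟨c, hp.indu hc, h1, h2⟩
  refine gen_sl (fun A B hA hB => hA.mul hB) hL ?_ M hM
  have hnn := hp.nn
  simp only [NormAut] at hnn
  push Not at hnn
  obtain ⟨γ, hγ, x, hx, hno⟩ := hnn
  obtain ⟨h2, h3⟩ := pow_conj h hx γ
  have hδ : γ * x * γ⁻¹ ∈ Γ := mul_mem (mul_mem hγ (hp.indu hx)) (inv_mem hγ)
  obtain ⟨A, hA⟩ := exists_matrix h2
  have h01 : A 0 1 ≠ 0 := by
    intro h01
    obtain ⟨h00, h11⟩ := unip h3 hA h01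
    exact hno (mem_aut hG h hp hδ h2 (r := A 1 0) fun v => (hA v).trans (ml_low h00 h01 h11 v))
  refine rep_w hL ⟨_, hδ, h2, hA⟩ h01 ?_
  intro hdet
  rw [Matrix.det_fin_two] at hdet
  have h4 : piZ φ (γ * x * γ⁻¹) (A 0 1, - A 0 0) = piZ φ (γ * x * γ⁻¹) 0 := by
    rw [hA, hA]
    apply Prod.ext
    · show A 0 0 * A 0 1 + A 0 1 * - A 0 0 = A 0 0 * 0 + A 0 1 * 0
      ring
    · show A 1 0 * A 0 1 + A 1 1 * - A 0 0 = A 1 0 * 0 + A 1 1 * 0
      linear_combination -hdet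
  exact h01 (congrArg Prod.fst ((piZ φ (γ * x * γ⁻¹)).injective h4))

omit hp in
theorem rep_lam (M : Matrix (Fin 2) (Fin 2) F) (hM : M.det = 1) : Rep (Lam2 φ) M := by
  refine gen_sl (fun A B hA hB => hA.mul hB) (fun r => ?_) ?_ M hM
  · obtain ⟨c, hc, h1, h2⟩ := exists_low (φ := φ) r
    exact ⟨c, (le_sup_left : _ ≤ Lam2 φ) hc, h1, h2⟩
  · obtain ⟨w, hw⟩ := (hG h).2.2.2.2.2
    refine ⟨w, (le_sup_right : _ ≤ Lam2 φ) (Subgroup.subset_closure hw), ?_, fun v => ?_⟩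
    · ext1 b
      show ((w (ww φ b) : Q2 φ) : Sy φ).x3 = b
      rw [hw.x3]
      show b - cr φ 0 0 = b
      rw [cr_zero_left, sub_zero]
    · rw [piZ_apply]
      apply Prod.ext
      · show ((w (zz φ v) : Q2 φ) : Sy φ).x2 = 0 * v.1 + 1 * v.2
        rw [hw.x2]
        show v.2 - tr φ (0 * 0) + tr φ (0 * sh φ 0) = _
        rw [zero_mul, zero_mul, tr_zero]; ring
      · show ((w (zz φ v) : Q2 φ) : Sy φ).x4 = -1 * v.1 + 0 * v.2
        rw [hw.x4]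
        show -v.1 + tr φ (0 * 0) - tr φ (sh φ 0 * 0) = _
        rw [mul_zero, mul_zero, tr_zero]; ring

/-- elements which fix the line `Z₁` -/
theorem norm_form {γ : MulAut (Q2 φ)} (hγ : γ ∈ Γ) (h1 : (piZ φ γ (0, 1)).1 = 0) :
    ∃ (x : Sy φ) (c : MulAut (Q2 φ)) (d : MulAut (Sy φ)) (s : K) (t : F) (τ : K ≃+* K) (ρ : F ≃+* F)
      (δ : MulAut (Q2 φ)), (∀ e : Q2 φ, ((c e : Q2 φ) : Sy φ) = x * e * x⁻¹) ∧ c ∈ autInducedBy ⊤ (Q2 φ) ∧ d ∈ D ∧
      IsTor d s t τ ρ ∧ IsR d δ ∧ γ = c * δ := by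
  obtain ⟨x, d, hd, hx⟩ := hp.norm γ hγ (normAut hG h hp hγ h1)
  obtain ⟨s, t, τ, ρ, hdt⟩ := (hG h).2.2.2.1 d (hp.D_le hd)
  obtain ⟨δ, hδ⟩ := exists_restr d
  obtain ⟨c, hc, hcx⟩ := exists_conj (φ := φ) x
  refine ⟨x, c, d, s, t, τ, ρ, δ, hcx, hc, hd, hdt, hδ, ?_⟩
  ext1 e
  apply Subtype.ext
  rw [MulAut.mul_apply, hcx, hδ, hx]

end Gamma

/-- **(L2A)** -/
theorem stL2a (hG : StGrpD.{u}) : StL2a.{u} := by
  intro F K _ _ _ φ _ p n h Γ D hp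
  refine ⟨?_, ?_, ?_⟩
  · intro b α hb hα
    obtain ⟨γ, hγ, hw, hz⟩ := rep_all hG h hp !![b⁻¹, 0; 0, b] (by
      rw [Matrix.det_fin_two_of, inv_mul_cancel₀ hb]; ring)
    have hz' : ∀ v : F × F, piZ φ γ v = (b⁻¹ * v.1, b * v.2) := by
      intro v
      rw [hz]
      apply Prod.ext
      · show b⁻¹ * v.1 + 0 * v.2 = _
        ring
      · show 0 * v.1 + b * v.2 = _
        ring
    obtain ⟨x, c, d, s, t, τ, ρ, δ, hcx, hc, hd, hdt, hδ, hγc⟩ := norm_form hG h hp hγ (by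
      rw [hz']; exact mul_zero _)
    have e1 : ∀ y : K, t • (sh φ s * τ y) = y := by
      intro y
      have h1 : piW φ γ y = y := by rw [hw]; rfl
      rw [hγc, map_mul, conj_w hcx, one_mul] at h1
      have h2 : piW φ δ y = t • (sh φ s * τ y) := by
        show ((δ (ww φ y) : Q2 φ) : Sy φ).x3 = _
        rw [hδ, hdt.x3]
        rfl
      rw [h2] at h1
      exact h1
    have e2 : ∀ v : F × F, piZ φ δ v = (nm φ s * t * ρ v.1, nm φ s * t ^ 2 * ρ v.2) := by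
      intro v
      rw [piZ_apply]
      apply Prod.ext
      · show ((δ (zz φ v) : Q2 φ) : Sy φ).x2 = _
        rw [hδ, hdt.x2]
        rfl
      · show ((δ (zz φ v) : Q2 φ) : Sy φ).x4 = _
        rw [hδ, hdt.x4]
        rfl
    have e3 : ∀ v : F × F, (b⁻¹ * v.1, b * v.2) = (nm φ s * t * ρ v.1,
        x.x6 * (nm φ s * t * ρ v.1) + nm φ s * t ^ 2 * ρ v.2) := by
      intro v
      rw [← hz', hγc, map_mul, Equiv.Perm.mul_apply, conj_z hcx, e2]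
    have f1 : ∀ y : F, b⁻¹ * y = nm φ s * t * ρ y := fun y => congrArg Prod.fst (e3 (y, 0))
    have f2 : b * 1 = x.x6 * (nm φ s * t * ρ 0) + nm φ s * t ^ 2 * ρ 1 := congrArg Prod.snd (e3 (0, 1))
    have f3 : nm φ s * t = b⁻¹ := by
      have := f1 1
      rw [map_one, mul_one, mul_one] at this
      exact this.symm
    have ht : t = b ^ 2 := by
      rw [map_zero, map_one, mul_zero, mul_zero, zero_add, mul_one, mul_one, pow_two, ← mul_assoc, f3] at f2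
      rw [pow_two]
      nth_rewrite 1 [f2]
      field_simp
    have hρ : ρ = RingEquiv.refl F := by
      ext y
      have := f1 y
      rw [f3] at this
      exact (mul_left_cancel₀ (inv_ne_zero hb) this).symm
    have f4 : t • sh φ s = 1 := by
      have := e1 1
      rwa [map_one, mul_one] at this
    have hτ : τ = RingEquiv.refl K := by
      ext y
      have := e1 y
      rw [← smul_mul_assoc, f4, one_mul] at this
      exact this
    have hs : s = (algebraMap F K b)⁻¹ := by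
      have h1 : (t • sh φ s) * s = s := by rw [f4, one_mul]
      rw [smul_mul_assoc, sh_mul_self, Algebra.smul_def, ← map_mul, mul_comm t, f3, map_inv₀] at h1
      exact h1.symm
    rw [hs, ht, hτ, hρ] at hdt
    rw [isTor_unique hα hdt]
    exact hd
  · set P := (piZ φ).prod (piW φ) with hP
    have hle : Lam2 φ ≤ (Γ.map P).comap P := by
      refine sup_le ?_ ((Subgroup.closure_le _).2 ?_)
      · intro x hx
        exact ⟨x, hp.indu hx, rfl⟩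
      · intro w hw
        obtain ⟨γ, hγ, h1, h2⟩ := rep_all hG h hp !![0, 1; -1, 0] (by rw [Matrix.det_fin_two_of]; ring)
        refine ⟨γ, hγ, Prod.ext ?_ ?_⟩
        · show piZ φ γ = piZ φ w
          ext1 v
          have hw' : IsW2 w := hw
          rw [h2, piZ_apply]
          apply Prod.ext
          · show 0 * v.1 + 1 * v.2 = ((w (zz φ v) : Q2 φ) : Sy φ).x2
            rw [hw'.x2]
            show _ = v.2 - tr φ (0 * 0) + tr φ (0 * sh φ 0)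
            simp only [zero_mul, mul_zero, tr_zero]; ring
          · show -1 * v.1 + 0 * v.2 = ((w (zz φ v) : Q2 φ) : Sy φ).x4
            rw [hw'.x4]
            show _ = -v.1 + tr φ (0 * 0) - tr φ (sh φ 0 * 0)
            simp only [zero_mul, mul_zero, tr_zero]; ring
        · show piW φ γ = piW φ w
          have hw' : IsW2 w := hw
          rw [h1]
          ext1 b
          show b = ((w (ww φ b) : Q2 φ) : Sy φ).x3
          rw [hw'.x3]
          show b = b - cr φ 0 0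
          rw [cr_zero_left, sub_zero]
    intro l hl
    obtain ⟨γ, hγ, hγl⟩ := hle hl
    exact ⟨γ, hγ, same_of_eq (congrArg Prod.fst hγl) (congrArg Prod.snd hγl)⟩
  · intro γ hγ
    obtain ⟨v, hv⟩ : ∃ v, v = piZ φ γ (0, 1) := ⟨_, rfl⟩
    have hv0 : ¬ (v.1 = 0 ∧ v.2 = 0) := by
      rintro ⟨h1, h2⟩
      have h3 : piZ φ γ (0, 1) = piZ φ γ 0 := by
        have h4 : piZ φ γ 0 = 0 := by
          have := piZ_add γ 0 0
          rw [add_zero] at this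
          exact left_eq_add.1 this
        rw [h4, ← hv]
        exact Prod.ext h1 h2
      have h4 := congrArg Prod.snd ((piZ φ γ).injective h3)
      exact one_ne_zero h4
    obtain ⟨N, hNdet, hN⟩ : ∃ N : Matrix (Fin 2) (Fin 2) F, N.det = 1 ∧ (ml N v).1 = 0 := by
      by_cases h1 : v.1 = 0
      · refine ⟨1, Matrix.det_one, ?_⟩
        show (1 : Matrix (Fin 2) (Fin 2) F) 0 0 * v.1 + (1 : Matrix (Fin 2) (Fin 2) F) 0 1 * v.2 = 0
        rw [h1, Matrix.one_apply_ne (show (0 : Fin 2) ≠ 1 by decide)]; ring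
      · refine ⟨!![v.2, -v.1; v.1⁻¹, 0], ?_, ?_⟩
        · rw [Matrix.det_fin_two_of]
          field_simp
          ring
        · show v.2 * v.1 + -v.1 * v.2 = 0
          ring
    obtain ⟨l, hl, hlw, hlz⟩ := rep_all hG h hp N hNdet
    obtain ⟨x, c, d, s, t, τ, ρ, δ, hcx, hc, hd, hdt, hδ, hγc⟩ := norm_form hG h hp (mul_mem hl hγ) (by
      rw [map_mul, Equiv.Perm.mul_apply, ← hv, hlz]; exact hN)
    -- the matrix of `l⁻¹ c`
    obtain ⟨r, hr⟩ := (aut_low hc).2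
    obtain ⟨lam, hlam, hlw', hlz'⟩ := rep_lam hG h (!![N 1 1, -N 0 1; -N 1 0, N 0 0] * !![1, 0; r, 1]) (by
      rw [Matrix.det_mul, Matrix.det_fin_two_of, Matrix.det_fin_two_of]
      rw [Matrix.det_fin_two] at hNdet
      linear_combination hNdet)
    refine ⟨lam, hlam, d, hd, δ, hδ, same_of_eq ?_ ?_⟩
    · have h1 : γ = l⁻¹ * c * δ := by rw [mul_assoc, ← hγc, inv_mul_cancel_left]
      rw [h1, map_mul, map_mul, map_mul]
      congr 1
      ext1 w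
      rw [Equiv.Perm.mul_apply]
      apply (piZ φ l).injective
      rw [map_inv, pai, hlz, hlz', ml_mul, hr]
      rw [Matrix.det_fin_two] at hNdet
      generalize ml !![1, 0; r, 1] w = y
      apply Prod.ext
      · show y.1 = N 0 0 * (N 1 1 * y.1 + -N 0 1 * y.2) + N 0 1 * (-N 1 0 * y.1 + N 0 0 * y.2)
        linear_combination -y.1 * hNdet
      · show y.2 = N 1 0 * (N 1 1 * y.1 + -N 0 1 * y.2) + N 1 1 * (-N 1 0 * y.1 + N 0 0 * y.2)
        linear_combination -y.2 * hNdet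
    · have h1 : γ = l⁻¹ * c * δ := by rw [mul_assoc, ← hγc, inv_mul_cancel_left]
      rw [h1, map_mul, map_mul, map_mul, map_inv, hlw, hlw', conj_w hcx]
      rfl

end Cfsg.Agent.H7.D4.LTwoA
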